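import Groth.Prelude.Def_Found
import Groth.Agent.NormalLib.CompleteLocal
import Groth.Agent.CatLib.Completion
import Mathlib

/-! The integral closure of a Noetherian local domain in a finite extension of its fraction field
is semi-local with residue fields finite over the base. -/

set_option autoImplicit false

universe u

open IsLocalRing TensorProduct

namespace SemilocalNormLib

/-- An N-2 domain has finite integral closure in any finite extension of any of its fraction fields. -/
theorem finite_integralClosure_of_isN2 {D : Type u} [CommRing D] [IsDomain D] (h : CAlg.IsN2 D)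
    (F L : Type u) [Field F] [Field L] [Algebra D F] [IsFractionRing D F] [Algebra D L]
    [Algebra F L] [IsScalarTower D F L] [FiniteDimensional F L] :
    Module.Finite D (integralClosure D L) := by
  let e : FractionRing D ≃ₐ[D] F := FractionRing.algEquiv D F
  let : Algebra (FractionRing D) L := ((algebraMap F L).comp e.toRingEquiv.toRingHom).toAlgebra
  have : IsScalarTower D (FractionRing D) L := IsScalarTower.of_algebraMap_eq fun x => by
    change _ = algebraMap F L (e (algebraMap D (FractionRing D) x))
    rw [e.commutes, ← IsScalarTower.algebraMap_apply]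
  have : FiniteDimensional (FractionRing D) L :=
    Module.Finite.of_equiv_equiv (A₁ := F) (B₁ := L) e.symm.toRingEquiv (RingEquiv.refl L)
      (by ext x; change algebraMap F L (e (e.symm x)) = algebraMap F L x; rw [e.apply_symm_apply])
  exact h L inferInstance

/-- Over a Nagata ring, integral closures in residue fields of quasi-finite algebras are finite. -/
theorem finite_integralClosure_residueField {R T : Type u} [CommRing R] [CommRing T] [Algebra R T]
    (hR : CAlg.IsNagata R) [Algebra.QuasiFinite R T] (P : Ideal T) [P.IsPrime] :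
    Module.Finite R (integralClosure R P.ResidueField) := by
  let p : Ideal R := P.under R
  have : P.LiesOver p := Ideal.over_under (A := R) (P := P)
  let := Localization.AtPrime.algebraOfLiesOver p P
  let F := p.ResidueField
  let L := P.ResidueField
  let : Algebra (R ⧸ p) L := ((algebraMap F L).comp (algebraMap (R ⧸ p) F)).toAlgebra
  have : IsScalarTower (R ⧸ p) F L := IsScalarTower.of_algebraMap_eq fun x => rfl
  have htow : IsScalarTower R (R ⧸ p) L := IsScalarTower.of_algebraMap_eq fun x => by
    change algebraMap R L x = algebraMap F L (algebraMap (R ⧸ p) F (algebraMap R (R ⧸ p) x))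
    rw [← IsScalarTower.algebraMap_apply R (R ⧸ p) F, ← IsScalarTower.algebraMap_apply R F L]
  have : Module.Finite (R ⧸ p) (integralClosure (R ⧸ p) L) :=
    finite_integralClosure_of_isN2 (hR.2 p) F L
  have : Module.Finite R (integralClosure (R ⧸ p) L) := Module.Finite.trans (R ⧸ p) _
  have : Module.Finite R ((integralClosure (R ⧸ p) L).restrictScalars R) := this
  suffices h : (integralClosure (R ⧸ p) L).restrictScalars R = integralClosure R L by
    exact h ▸ this
  ext x
  change IsIntegral (R ⧸ p) x ↔ IsIntegral R x
  exact ⟨isIntegral_trans x, IsIntegral.tower_top⟩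

/-- An integral algebra `B` over a Noetherian local ring which maps, after completion, with nil
kernel to a finite algebra over the completion is semi-local with finite residue extensions. -/
theorem semilocal_of_completion {A B N : Type u} [CommRing A] [IsLocalRing A] [IsNoetherianRing A]
    [CommRing B] [Algebra A B] [Algebra.IsIntegral A B] [CommRing N]
    [Algebra (AdicCompletion (maximalIdeal A) A) N]
    [Module.Finite (AdicCompletion (maximalIdeal A) A) N]
    [Algebra A N] [IsScalarTower A (AdicCompletion (maximalIdeal A) A) N]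
    (Φ : AdicCompletion (maximalIdeal A) A ⊗[A] B →ₐ[AdicCompletion (maximalIdeal A) A] N)
    (hΦ : ∀ z, Φ z = 0 → IsNilpotent z) :
    {m : Ideal B | m.IsMaximal}.Finite ∧ ∀ m : Ideal B, m.IsMaximal → Module.Finite A (B ⧸ m) := by
  classical
  let Ah := AdicCompletion (maximalIdeal A) A
  let g : B →ₐ[A] N := (Φ.restrictScalars A).comp Algebra.TensorProduct.includeRight
  have key : ∀ m : Ideal B, m.IsMaximal → ∃ M : Ideal N, M.IsMaximal ∧ M.comap g.toRingHom = m := by
    intro m hm
    have hmA : m.comap (algebraMap A B) = maximalIdeal A :=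
      eq_maximalIdeal (Ideal.isMaximal_comap_of_isIntegral_of_isMaximal m)
    let res : (A ⧸ maximalIdeal A) →ₐ[A] B ⧸ m :=
      Ideal.Quotient.liftₐ _ (Algebra.ofId A (B ⧸ m)) fun a ha => by
        rw [← hmA] at ha
        exact Ideal.Quotient.eq_zero_iff_mem.2 ha
    let Ψ : Ah ⊗[A] B →ₐ[A] B ⧸ m := Algebra.TensorProduct.lift
      (res.comp ((AdicCompletion.evalOneₐ (maximalIdeal A)).restrictScalars A))
      (Ideal.Quotient.mkₐ A m) fun _ _ => Commute.all _ _
    have hΨincl : ∀ a : B, Ψ (1 ⊗ₜ a) = Ideal.Quotient.mk m a := fun a => by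
      simp [Ψ]
    let Q : Ideal (Ah ⊗[A] B) := RingHom.ker Ψ.toRingHom
    have hΨs : Function.Surjective Ψ.toRingHom := fun y => by
      obtain ⟨a, rfl⟩ := Ideal.Quotient.mk_surjective y
      exact ⟨1 ⊗ₜ a, hΨincl a⟩
    have hQ : Q.IsMaximal := by
      have : IsField (B ⧸ m) := (Ideal.Quotient.maximal_ideal_iff_isField_quotient m).1 hm
      let := this.toField
      exact RingHom.ker_isMaximal_of_surjective _ hΨs
    have hker : RingHom.ker Φ.toRingHom ≤ Q := fun z hz => by
      obtain ⟨n, hn⟩ := hΦ z hz
      exact hQ.isPrime.mem_of_pow_mem n (by rw [hn]; exact Q.zero_mem)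
    let : Algebra (Ah ⊗[A] B) N := Φ.toRingHom.toAlgebra
    have : IsScalarTower Ah (Ah ⊗[A] B) N := IsScalarTower.of_algHom Φ
    have : Algebra.IsIntegral (Ah ⊗[A] B) N := Algebra.IsIntegral.tower_top (R := Ah)
    obtain ⟨M, hM, hMQ⟩ := Ideal.exists_ideal_over_maximal_of_isIntegral (S := N) Q hker
    refine ⟨M, hM, ?_⟩
    ext a
    rw [Ideal.mem_comap, ← Ideal.Quotient.eq_zero_iff_mem (I := m), ← hΨincl a]
    change g a ∈ M ↔ (1 : Ah) ⊗ₜ a ∈ Q
    rw [← hMQ, Ideal.mem_comap]
    rfl
  have : Algebra.IsIntegral Ah N := Algebra.IsIntegral.of_finite Ah N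
  constructor
  · refine ((Algebra.QuasiFinite.finite_primesOver (R := Ah) (S := N) (maximalIdeal Ah)).image
      fun M => M.comap g.toRingHom).subset ?_
    intro m hm
    obtain ⟨M, hM, rfl⟩ := key m hm
    exact ⟨M, ⟨hM.isPrime, ⟨(eq_maximalIdeal
      (Ideal.isMaximal_comap_of_isIntegral_of_isMaximal (R := Ah) M)).symm⟩⟩, rfl⟩
  · intro m hm
    obtain ⟨M, hM, rfl⟩ := key m hm
    have hMm : M.under Ah = maximalIdeal Ah :=
      eq_maximalIdeal (Ideal.isMaximal_comap_of_isIntegral_of_isMaximal (R := Ah) M)
    have : M.LiesOver (maximalIdeal Ah) := ⟨hMm.symm⟩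
    have h1 : Function.Surjective (algebraMap A (Ah ⧸ maximalIdeal Ah)) := fun y => by
      obtain ⟨x, hx⟩ := (AdicCompletion.residueField_map_bijective (R := A)).2 y
      obtain ⟨x, rfl⟩ := IsLocalRing.residue_surjective x
      exact ⟨x, hx⟩
    have : Module.Finite A (Ah ⧸ maximalIdeal Ah) :=
      Module.Finite.of_surjective (Algebra.linearMap A _) h1
    have : Module.Finite Ah (N ⧸ M) := inferInstance
    have : Module.Finite (Ah ⧸ maximalIdeal Ah) (N ⧸ M) := Module.Finite.of_restrictScalars_finite Ah _ _
    have : Module.Finite A (N ⧸ M) := Module.Finite.trans (Ah ⧸ maximalIdeal Ah) _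
    exact Module.Finite.of_injective
      (Ideal.quotientMapₐ (I := M.comap g.toRingHom) M g le_rfl).toLinearMap
      Ideal.quotientMap_injective

set_option maxHeartbeats 1000000 in
theorem semilocal_integralClosure {A K' : Type u} [CommRing A] [IsDomain A] [IsLocalRing A]
    [IsNoetherianRing A] [Field K'] [Algebra A K'] [Algebra (FractionRing A) K']
    [IsScalarTower A (FractionRing A) K'] [FiniteDimensional (FractionRing A) K'] :
    {m : Ideal (integralClosure A K') | m.IsMaximal}.Finite ∧
      ∀ (m : Ideal (integralClosure A K')), m.IsMaximal →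
        Module.Finite A (integralClosure A K' ⧸ m) := by
  classical
  let Ah := AdicCompletion (maximalIdeal A) A
  have : IsNoetherianRing Ah := AdicRingLib.isNoetherianRing_adicCompletion _
  have hN : CAlg.IsNagata Ah := NormalLib.isNagata_of_isAdicComplete_local Ah
  have : Algebra.QuasiFinite A (FractionRing A) :=
    Algebra.QuasiFinite.of_isLocalization (nonZeroDivisors A)
  have : Algebra.QuasiFinite A K' := Algebra.QuasiFinite.trans A (FractionRing A) K'
  have : Algebra.EssFiniteType A (FractionRing A) :=
    Algebra.EssFiniteType.of_isLocalization _ (nonZeroDivisors A)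
  have : Algebra.EssFiniteType A K' := Algebra.EssFiniteType.comp A (FractionRing A) K'
  let T := Ah ⊗[A] K'
  have : IsNoetherianRing T := Algebra.EssFiniteType.isNoetherianRing Ah T
  let A' := integralClosure A K'
  let ι := {P : Ideal T // P ∈ minimalPrimes T}
  have : Finite ι := (minimalPrimes.finite_of_isNoetherianRing T).to_subtype
  have hprime : ∀ P : ι, P.1.IsPrime := fun P => P.2.1.1
  let N := ∀ P : ι, integralClosure Ah P.1.ResidueField
  have hfinC : ∀ P : ι, Module.Finite Ah (integralClosure Ah P.1.ResidueField) := fun P =>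
    finite_integralClosure_residueField hN P.1
  have : Module.Finite Ah N := Module.Finite.pi
  let incl : Ah ⊗[A] A' →ₐ[Ah] T := Algebra.TensorProduct.map (AlgHom.id Ah Ah) A'.val
  have hinj : Function.Injective incl :=
    Module.Flat.lTensor_preserves_injective_linearMap (M := Ah) A'.val.toLinearMap
      Subtype.val_injective
  have hint : ∀ (P : ι) (z : Ah ⊗[A] A'),
      ((IsScalarTower.toAlgHom Ah T P.1.ResidueField).comp incl) z ∈
        integralClosure Ah P.1.ResidueField := fun P z =>
    ((Algebra.IsIntegral.isIntegral (R := Ah) z)).map _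
  let Φ : Ah ⊗[A] A' →ₐ[Ah] N := Pi.algHom Ah _ fun P =>
    ((IsScalarTower.toAlgHom Ah T P.1.ResidueField).comp incl).codRestrict _ (hint P)
  refine semilocal_of_completion Φ fun z hz => ?_
  have hnil : IsNilpotent (incl z) := by
    rw [nilpotent_iff_mem_prime]
    intro J hJ
    obtain ⟨P, hP, hPJ⟩ := Ideal.exists_minimalPrimes_le (bot_le : (⊥ : Ideal T) ≤ J)
    have := hP.1.1
    refine hPJ (Ideal.algebraMap_residueField_eq_zero.1 ?_)
    exact congrArg Subtype.val (congr_fun hz ⟨P, hP⟩)
  obtain ⟨n, hn⟩ := hnil
  exact ⟨n, hinj (by rw [map_pow, hn, map_zero])⟩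

end SemilocalNormLib
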