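import Groth.Agent.SemilocalNormLib.Main
import Mathlib

/-! Integral closure of a Noetherian local ring in an Artinian total ring of fractions is semi-local. -/

set_option autoImplicit false

universe u

open IsLocalRing
open scoped nonZeroDivisors

namespace SemilocalNormLib

theorem finite_maximal_of_artinian {E Q : Type u} [CommRing E] [IsLocalRing E] [IsNoetherianRing E]
    [CommRing Q] [Algebra E Q] [IsFractionRing E Q] [IsArtinianRing Q] :
    {M : Ideal (integralClosure E Q) | M.IsMaximal}.Finite := by
  classical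
  have := Fintype.ofFinite (MaximalSpectrum Q)
  let E' := integralClosure E Q
  let π : ∀ P : MaximalSpectrum Q, E' →ₐ[E] integralClosure E (Q ⧸ P.asIdeal) := fun P =>
    ((Ideal.Quotient.mkₐ E P.asIdeal).comp E'.val).codRestrict _ fun x =>
      (x.2 : IsIntegral E x.1).map (Ideal.Quotient.mkₐ E P.asIdeal)
  have hfin : ∀ P : MaximalSpectrum Q,
      {M : Ideal (integralClosure E (Q ⧸ P.asIdeal)) | M.IsMaximal}.Finite := by
    intro P
    let p : Ideal E := P.asIdeal.comap (algebraMap E Q)
    let L := Q ⧸ P.asIdeal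
    let := Ideal.Quotient.field P.asIdeal
    have : IsLocalRing (E ⧸ p) :=
      IsLocalRing.of_surjective' (Ideal.Quotient.mk p) Ideal.Quotient.mk_surjective
    let : Algebra (E ⧸ p) L :=
      (Ideal.quotientMap P.asIdeal (algebraMap E Q) le_rfl).toAlgebra
    have : IsScalarTower E (E ⧸ p) L := IsScalarTower.of_algebraMap_eq fun x => rfl
    have : FaithfulSMul (E ⧸ p) L :=
      (faithfulSMul_iff_algebraMap_injective _ _).2 Ideal.quotientMap_injective
    let := FractionRing.liftAlgebra (E ⧸ p) L
    have hsurj : Function.Surjective (Algebra.linearMap (FractionRing (E ⧸ p)) L) := by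
      intro y
      obtain ⟨x, rfl⟩ := Ideal.Quotient.mk_surjective y
      obtain ⟨a, s, rfl⟩ := IsLocalization.exists_mk'_eq E⁰ x
      refine ⟨algebraMap (E ⧸ p) _ (Ideal.Quotient.mk p a) /
        algebraMap (E ⧸ p) _ (Ideal.Quotient.mk p s), ?_⟩
      rw [Algebra.linearMap_apply, map_div₀, ← IsScalarTower.algebraMap_apply,
        ← IsScalarTower.algebraMap_apply]
      have hs : algebraMap E L s ≠ 0 := by
        intro h
        exact P.isMaximal.ne_top (Ideal.eq_top_of_isUnit_mem _
          (Ideal.Quotient.eq_zero_iff_mem.1 h) (IsLocalization.map_units Q s))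
      change algebraMap E L a / algebraMap E L s = _
      rw [div_eq_iff hs]
      change Ideal.Quotient.mk P.asIdeal (algebraMap E Q a) = Ideal.Quotient.mk P.asIdeal _ *
        Ideal.Quotient.mk P.asIdeal (algebraMap E Q s)
      rw [← map_mul, IsLocalization.mk'_spec]
    have : FiniteDimensional (FractionRing (E ⧸ p)) L := Module.Finite.of_surjective _ hsurj
    have h := (semilocal_integralClosure (A := E ⧸ p) (K' := L)).1
    have heq : (integralClosure (E ⧸ p) L).restrictScalars E = integralClosure E L := by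
      ext x
      exact ⟨isIntegral_trans x, IsIntegral.tower_top⟩
    rw [← heq]
    exact h
  refine ((Set.finite_iUnion fun P => (hfin P).image fun M : Ideal (integralClosure E (Q ⧸ P.asIdeal)) =>
    M.comap (π P).toRingHom)).subset ?_
  intro m hm
  have hm' : m.IsMaximal := hm
  have hker : (Finset.univ.inf fun P => RingHom.ker (π P).toRingHom) ≤ m := by
    intro x hx
    have hxQ : ∀ P : MaximalSpectrum Q, (x : Q) ∈ P.asIdeal := fun P =>
      Ideal.Quotient.eq_zero_iff_mem.1 (congrArg Subtype.val
        (RingHom.mem_ker.1 (Submodule.mem_finsetInf.1 hx P (Finset.mem_univ P))))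
    have : IsNilpotent (x : Q) := nilpotent_iff_mem_prime.2 fun J hJ =>
      hxQ ⟨J, IsArtinianRing.isMaximal_of_isPrime J⟩
    obtain ⟨n, hn⟩ := this
    have hxn : x ^ n = 0 := Subtype.ext hn
    exact hm'.isPrime.mem_of_pow_mem n (by rw [hxn]; exact m.zero_mem)
  obtain ⟨P, -, hP⟩ := (Ideal.IsPrime.inf_le' hm'.isPrime).1 hker
  let : Algebra E' (integralClosure E (Q ⧸ P.asIdeal)) := (π P).toRingHom.toAlgebra
  have : IsScalarTower E E' (integralClosure E (Q ⧸ P.asIdeal)) := IsScalarTower.of_algHom (π P)
  have : Algebra.IsIntegral E' (integralClosure E (Q ⧸ P.asIdeal)) :=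
    Algebra.IsIntegral.tower_top (R := E)
  obtain ⟨M, hM, hMm⟩ :=
    Ideal.exists_ideal_over_maximal_of_isIntegral (S := integralClosure E (Q ⧸ P.asIdeal)) m hP
  exact Set.mem_iUnion.2 ⟨P, M, hM, hMm⟩

end SemilocalNormLib
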